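import Mathlib.RingTheory.Etale.Field
import Mathlib.RingTheory.Kaehler.Basic
import Mathlib.RingTheory.Unramified.Field
import Mathlib.FieldTheory.PurelyInseparable.Basic
import Mathlib.FieldTheory.Separable
import Mathlib.RingTheory.LocalRing.ResidueField.Basic

/-!
# Differentials of a truncated discrete valuation ring over a field

For an artinian local `K`-algebra `B` whose maximal ideal is generated by an element `π` of nilpotency
order `e`, with finite residue extension and cyclic module of differentials, `Ω[B⁄K]` is `B ⧸ (π^(e-1))`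
in the tame case and `B` otherwise.
-/

set_option autoImplicit false
set_option linter.style.haveILetI false
set_option linter.unusedSectionVars false
set_option maxHeartbeats 800000

universe u

open Polynomial IsLocalRing

namespace Groth.Agent.DiffLength

section presentation

variable {K F B : Type u} [Field K] [Field F] [CommRing B] [Algebra K B] [Algebra F B]
  [Algebra K F] [IsScalarTower K F B]

theorem d_aeval (z : B) (hF : ∀ a : F, KaehlerDifferential.D K B (algebraMap F B a) = 0) (p : F[X]) :
    KaehlerDifferential.D K B (aeval z p) = aeval z (derivative p) • KaehlerDifferential.D K B z := by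
  induction p using Polynomial.induction_on' with
  | add p q hp hq => rw [map_add, map_add, hp, hq, map_add, map_add, add_smul]
  | monomial n a =>
    rw [aeval_monomial, derivative_monomial, aeval_monomial, Derivation.leibniz, hF, smul_zero, add_zero,
      Derivation.leibniz_pow, map_mul, map_natCast]
    simp only [← Nat.cast_smul_eq_nsmul B, smul_smul]
    congr 1
    ring

variable (z : B) (g : F[X]) (hs : Function.Surjective (aeval z : F[X] →ₐ[F] B))
  (hg : aeval z g = 0) (hker : ∀ p : F[X], aeval z p = 0 → g ∣ p)
  (hF : ∀ a : F, KaehlerDifferential.D K B (algebraMap F B a) = 0)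

include hs hg hF in
theorem smul_eq_zero' (x : Ω[B⁄K]) : aeval z (derivative g) • x = 0 := by
  have hc : aeval z (derivative g) • KaehlerDifferential.D K B z = 0 := by
    rw [← d_aeval z hF, hg, map_zero]
  have hx : x ∈ Submodule.span B (Set.range (KaehlerDifferential.D K B)) := by
    rw [KaehlerDifferential.span_range_derivation]; trivial
  induction hx using Submodule.span_induction with
  | mem y hy =>
    obtain ⟨b, rfl⟩ := hy
    obtain ⟨p, rfl⟩ := hs b
    rw [d_aeval z hF, smul_comm, hc, smul_zero]
  | zero => rw [smul_zero]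
  | add _ _ _ _ h1 h2 => rw [smul_add, h1, h2, add_zero]
  | smul b _ _ h => rw [smul_comm, h, smul_zero]

include hs hg hker in
theorem exists_presentation :
    ∃ φ : Ω[B⁄K] →ₗ[B] B ⧸ Ideal.span {aeval z (derivative g)}, Function.Surjective φ := by
  classical
  let c := aeval z (derivative g)
  let Q := B ⧸ Ideal.span {c}
  let sec : B → F[X] := Function.surjInv hs
  have hsec : ∀ b, aeval z (sec b) = b := Function.surjInv_eq hs
  have key : ∀ (p : F[X]) (b : B), aeval z p = b →
      (Ideal.Quotient.mk (Ideal.span {c}) (aeval z (derivative (sec b)))) =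
        Ideal.Quotient.mk (Ideal.span {c}) (aeval z (derivative p)) := by
    intro p b hp
    rw [Ideal.Quotient.eq]
    obtain ⟨q, hq⟩ := hker (sec b - p) (by rw [map_sub, hsec, hp, sub_self])
    rw [← map_sub, ← derivative_sub, hq, derivative_mul, map_add, map_mul, map_mul, hg, zero_mul,
      add_zero]
    exact Ideal.mul_mem_right _ _ (Ideal.mem_span_singleton_self c)
  let L : B →ₗ[K] Q :=
    { toFun := fun b => Ideal.Quotient.mk _ (aeval z (derivative (sec b)))
      map_add' := fun a b => by
        rw [key (sec a + sec b) (a + b) (by rw [map_add, hsec, hsec]), derivative_add, map_add, map_add]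
      map_smul' := fun r b => by
        rw [key (C (algebraMap K F r) * sec b) (r • b) (by
          rw [map_mul, aeval_C, hsec, ← IsScalarTower.algebraMap_apply, Algebra.smul_def]),
          derivative_C_mul, map_mul, aeval_C, ← IsScalarTower.algebraMap_apply, map_mul, RingHom.id_apply,
          Algebra.smul_def (A := Q)]
        rfl }
  let D : Derivation K B Q := Derivation.mk' L fun a b => by
    show Ideal.Quotient.mk _ (aeval z (derivative (sec (a * b)))) = _
    rw [key (sec a * sec b) (a * b) (by rw [map_mul, hsec, hsec]), derivative_mul, map_add, map_mul,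
      map_mul, hsec, hsec, map_add, Algebra.smul_def, Algebra.smul_def, map_mul, map_mul,
      Ideal.Quotient.algebraMap_eq, add_comm]
    show _ = Ideal.Quotient.mk _ a * Ideal.Quotient.mk _ (aeval z (derivative (sec b))) +
      Ideal.Quotient.mk _ b * Ideal.Quotient.mk _ (aeval z (derivative (sec a)))
    rw [mul_comm (Ideal.Quotient.mk _ (aeval z (derivative (sec a))))]
  refine ⟨D.liftKaehlerDifferential, fun x => ?_⟩
  obtain ⟨b, rfl⟩ := Ideal.Quotient.mk_surjective x
  refine ⟨b • KaehlerDifferential.D K B z, ?_⟩
  rw [map_smul, Derivation.liftKaehlerDifferential_comp_D]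
  show b • Ideal.Quotient.mk _ (aeval z (derivative (sec z))) = _
  rw [key X z (aeval_X z), derivative_X, map_one, map_one, Algebra.smul_def, mul_one]
  rfl

end presentation

section filtration

variable {K F B : Type u} [Field F] [CommRing B] [IsLocalRing B] [Algebra F B]
variable (z : B) (h : F[X]) {w : B} (hw : aeval z h = w) (hm : maximalIdeal B = Ideal.span {w}) {e : ℕ}
  (hwe : w ^ e = 0)

include hm hwe in
theorem surjective_aeval (hw : aeval z h = w)
    (hres : ∀ b : B, ∃ p : F[X], residue B (aeval z p) = residue B b) :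
    Function.Surjective (aeval z : F[X] →ₐ[F] B) := by
  have main : ∀ (n : ℕ) (b : B), ∃ p : F[X], b - aeval z p ∈ Ideal.span {w ^ n} := by
    intro n
    induction n with
    | zero => exact fun b => ⟨0, by simp⟩
    | succ n ih =>
      intro b
      obtain ⟨p, hp⟩ := hres b
      have hmem : b - aeval z p ∈ maximalIdeal B := by
        rw [← IsLocalRing.residue_eq_zero_iff, map_sub, hp, sub_self]
      rw [hm, Ideal.mem_span_singleton'] at hmem
      obtain ⟨b', hb'⟩ := hmem
      obtain ⟨q, hq⟩ := ih b'
      obtain ⟨r, hr⟩ := Ideal.mem_span_singleton'.1 hq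
      refine ⟨p + q * h, Ideal.mem_span_singleton'.2 ⟨r, ?_⟩⟩
      rw [map_add, map_mul, hw, pow_succ, ← mul_assoc, hr, sub_mul, hb']
      abel
  intro b
  obtain ⟨p, hp⟩ := main e b
  rw [hwe, Ideal.span_singleton_eq_bot.2 rfl, Submodule.mem_bot, sub_eq_zero] at hp
  exact ⟨p, hp.symm⟩

include hm hwe in
theorem pow_dvd_of_aeval_eq_zero (hw : aeval z h = w) (hne : ∀ i, i < e → w ^ i ≠ 0)
    (hres : ∀ p : F[X], aeval z p ∈ maximalIdeal B → h ∣ p) (p : F[X]) (hp : aeval z p = 0) : h ^ e ∣ p := by
  suffices ∀ i ≤ e, h ^ i ∣ p from this e le_rfl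
  intro i hi
  induction i with
  | zero => exact ⟨p, by simp⟩
  | succ i ih =>
    obtain ⟨q, rfl⟩ := ih (Nat.le_of_succ_le hi)
    rw [map_mul, map_pow, hw] at hp
    obtain ⟨r, rfl⟩ := hres q (by
      by_contra hu
      exact hne i (Nat.lt_of_succ_le hi) ((IsUnit.mul_left_eq_zero (IsLocalRing.notMem_maximalIdeal.1 hu)).1 hp))
    exact ⟨r, by rw [pow_succ, mul_assoc]⟩

end filtration

variable {K B : Type u} [Field K] [CommRing B] [IsLocalRing B] [Algebra K B]

theorem dichotomy [Module.Finite K (ResidueField B)] {π : B} (hm : maximalIdeal B = Ideal.span {π})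
    {e : ℕ} (he : 0 < e) (hpow : π ^ e = 0) (hne : π ^ (e - 1) ≠ 0)
    (hcyc : ∃ ω : Ω[B⁄K], ∀ x, ∃ b : B, b • ω = x) :
    ((Algebra.IsSeparable K (ResidueField B) ∧ (e : K) ≠ 0) →
      (∀ x : Ω[B⁄K], π ^ (e - 1) • x = 0) ∧
      ∃ φ : Ω[B⁄K] →ₗ[B] B ⧸ Ideal.span {π ^ (e - 1)}, Function.Surjective φ) ∧
    (¬(Algebra.IsSeparable K (ResidueField B) ∧ (e : K) ≠ 0) →
      ∃ φ : Ω[B⁄K] →ₗ[B] B, Function.Surjective φ) := by
  classical
  let κ := ResidueField B
  let F := separableClosure K κ
  haveI : Algebra.FormallyEtale K F := Algebra.FormallyEtale.of_isSeparable K F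
  have hnil : IsNilpotent (maximalIdeal B) := ⟨e, by
    rw [hm, Ideal.span_singleton_pow, hpow, Ideal.span_singleton_eq_bot.2 rfl]; rfl⟩
  let g : F →ₐ[K] B ⧸ maximalIdeal B := (F.val : F →ₐ[K] κ)
  let s := Algebra.FormallySmooth.lift (maximalIdeal B) hnil g
  letI : Algebra F B := s.toRingHom.toAlgebra
  haveI : IsScalarTower K F B := IsScalarTower.of_algebraMap_eq fun r => (s.commutes r).symm
  have hcomp : ∀ a : F, residue B (algebraMap F B a) = algebraMap F κ a := fun a =>
    Algebra.FormallySmooth.mk_lift (maximalIdeal B) hnil g a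
  have hres : ∀ (z : B) (p : F[X]), residue B (aeval z p) = aeval (residue B z) p := fun z p => by
    rw [aeval_def, aeval_def, Polynomial.hom_eval₂]
    congr 1
    exact RingHom.ext hcomp
  haveI : Algebra.IsSeparable K F := separableClosure.isSeparable K κ
  have hF : ∀ a : F, KaehlerDifferential.D K B (algebraMap F B a) = 0 := fun a => by
    have h1 : aeval (algebraMap F B a) (minpoly K a) = 0 := by
      rw [aeval_algebraMap_apply, minpoly.aeval, map_zero]
    have h2 := (Derivation.map_aeval (KaehlerDifferential.D K B) (minpoly K a) (algebraMap F B a)).symm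
    rw [h1, map_zero] at h2
    have hu : IsUnit (aeval (algebraMap F B a) (derivative (minpoly K a))) := by
      rw [aeval_algebraMap_apply]
      exact (isUnit_iff_ne_zero.2 ((Algebra.IsSeparable.isSeparable K a).aeval_derivative_ne_zero
        (minpoly.aeval K a))).map _
    exact hu.smul_eq_zero.1 h2
  have hlt : ∀ {w u : B}, IsUnit u → w = π * u → w ^ e = 0 ∧ ∀ i, i < e → w ^ i ≠ 0 := by
    intro w u hu hw
    refine ⟨by rw [hw, mul_pow, hpow, zero_mul], fun i hi h0 => hne ?_⟩
    rw [hw, mul_pow, IsUnit.mul_left_eq_zero (hu.pow i)] at h0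
    rw [← Nat.add_sub_cancel' (Nat.le_sub_one_of_lt hi), pow_add, h0, zero_mul]
  by_cases hsep : Algebra.IsSeparable K κ
  · haveI := hsep
    have hmem : ∀ x : κ, x ∈ F := fun x => mem_separableClosure_iff.2 (Algebra.IsSeparable.isSeparable K x)
    obtain ⟨hwe, hwne⟩ := hlt (w := π) isUnit_one (mul_one π).symm
    have hπres : residue B π = 0 := by
      rw [IsLocalRing.residue_eq_zero_iff, hm]; exact Ideal.mem_span_singleton_self π
    have hsurj := surjective_aeval π (X : F[X]) hm hwe (aeval_X π) fun b =>
      ⟨C ⟨residue B b, hmem _⟩, by rw [aeval_C, hcomp]; rfl⟩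
    have hker := pow_dvd_of_aeval_eq_zero π (X : F[X]) hm hwe (aeval_X π) hwne fun p hp => by
      rw [← IsLocalRing.residue_eq_zero_iff, hres, hπres, aeval_def, eval₂_at_zero,
        map_eq_zero_iff _ (algebraMap F κ).injective] at hp
      exact X_dvd_iff.2 hp
    have hg : aeval π ((X : F[X]) ^ e) = 0 := by rw [map_pow, aeval_X, hpow]
    have hc : aeval π (derivative ((X : F[X]) ^ e)) = (e : B) * π ^ (e - 1) := by
      rw [derivative_X_pow, map_mul, aeval_C, map_natCast, map_pow, aeval_X]
    obtain ⟨φ, hφ⟩ := exists_presentation (K := K) π _ hsurj hg hker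
    refine ⟨fun hP => ?_, fun hP => ?_⟩
    · have hu : IsUnit (e : B) := by
        simpa using (isUnit_iff_ne_zero.2 hP.2).map (algebraMap K B)
      have hspan : Ideal.span {aeval π (derivative ((X : F[X]) ^ e))} = Ideal.span {π ^ (e - 1)} := by
        rw [hc, Ideal.span_singleton_mul_left_unit hu]
      refine ⟨fun x => ?_, (Submodule.quotEquivOfEq _ _ hspan).toLinearMap ∘ₗ φ,
        (Submodule.quotEquivOfEq _ _ hspan).surjective.comp hφ⟩
      have hx := smul_eq_zero' π _ hsurj hg hF x
      rw [hc, mul_smul] at hx
      exact hu.smul_eq_zero.1 hx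
    · have h0 : (e : K) = 0 := by_contra fun h => hP ⟨hsep, h⟩
      have hspan : Ideal.span {aeval π (derivative ((X : F[X]) ^ e))} = (⊥ : Ideal B) := by
        rw [hc, show (e : B) = 0 by rw [← map_natCast (algebraMap K B) e, h0, map_zero], zero_mul,
          Ideal.span_singleton_eq_bot.2 rfl]
      exact ⟨(Submodule.quotEquivOfEqBot _ hspan).toLinearMap ∘ₗ φ,
        (Submodule.quotEquivOfEqBot _ hspan).surjective.comp hφ⟩
  · refine ⟨fun hP => absurd hP.1 hsep, fun _ => ?_⟩
    obtain ⟨zb, hzb⟩ : ∃ zb : κ, KaehlerDifferential.D K κ zb ≠ 0 := by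
      by_contra hall
      push_neg at hall
      haveI : Subsingleton Ω[κ⁄K] := by
        rw [← Submodule.subsingleton_iff (R := κ), ← subsingleton_iff_bot_eq_top,
          ← KaehlerDifferential.span_range_derivation, eq_comm, Submodule.span_eq_bot]
        rintro _ ⟨x, rfl⟩
        exact hall x
      haveI : Algebra.FormallyUnramified K κ := ⟨inferInstance⟩
      exact hsep (Algebra.FormallyUnramified.isSeparable K κ)
    obtain ⟨ω, hω⟩ := hcyc
    let φ₂ : Ω[B⁄K] →ₗ[B] Ω[κ⁄K] := KaehlerDifferential.map K K B κ
    have hφ₂ : ∀ x : B, φ₂ (KaehlerDifferential.D K B x) = KaehlerDifferential.D K κ (residue B x) :=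
      fun x => KaehlerDifferential.map_D K K B κ x
    obtain ⟨z, hz⟩ := IsLocalRing.residue_surjective zb
    -- the differential of `zb` generates
    have hgen : ∀ x : κ, ∃ c : κ, c • KaehlerDifferential.D K κ zb = KaehlerDifferential.D K κ x := by
      intro x
      obtain ⟨y, rfl⟩ := IsLocalRing.residue_surjective x
      obtain ⟨b, hb⟩ := hω (KaehlerDifferential.D K B y)
      obtain ⟨b', hb'⟩ := hω (KaehlerDifferential.D K B z)
      have hy := congrArg φ₂ hb
      have hz' := congrArg φ₂ hb'
      rw [map_smul, hφ₂, ← IsScalarTower.algebraMap_smul κ] at hy hz'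
      rw [hz] at hz'
      have hb0 : algebraMap B κ b' ≠ 0 := fun h => hzb (by rw [← hz', h, zero_smul])
      refine ⟨algebraMap B κ b * (algebraMap B κ b')⁻¹, ?_⟩
      rw [← hz', smul_smul, mul_assoc, inv_mul_cancel₀ hb0, mul_one, hy]
    -- `zb` generates the residue field over `F`
    let E := IntermediateField.adjoin F {zb}
    haveI : Algebra.FormallyUnramified E κ := by
      refine ⟨?_⟩
      rw [← Submodule.subsingleton_iff (R := κ), ← subsingleton_iff_bot_eq_top,
        ← KaehlerDifferential.span_range_derivation, eq_comm, Submodule.span_eq_bot]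
      rintro _ ⟨x, rfl⟩
      obtain ⟨c, hc⟩ := hgen x
      have h1 := congrArg (KaehlerDifferential.map F E κ κ ∘ KaehlerDifferential.map K F κ κ) hc
      simp only [Function.comp, map_smul, KaehlerDifferential.map_D, Algebra.algebraMap_self,
        RingHom.id_apply] at h1
      rw [← h1]
      have h2 : KaehlerDifferential.D E κ zb = 0 :=
        (KaehlerDifferential.D E κ).map_algebraMap ⟨zb, IntermediateField.mem_adjoin_simple_self F zb⟩
      rw [h2, smul_zero]
    haveI : Module.Finite F κ := Module.Finite.of_restrictScalars_finite K F κ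
    haveI : Module.Finite E κ := Module.Finite.of_restrictScalars_finite F E κ
    haveI : Algebra.IsSeparable E κ := Algebra.FormallyUnramified.isSeparable E κ
    haveI : IsPurelyInseparable E κ := IsPurelyInseparable.tower_top F E κ
    have hadj : ∀ x : κ, ∃ p : F[X], aeval zb p = x := by
      intro x
      obtain ⟨⟨y, hy⟩, rfl⟩ := IsPurelyInseparable.surjective_algebraMap_of_isSeparable E κ x
      have hy' : y ∈ Algebra.adjoin F {zb} := by
        rw [← IntermediateField.adjoin_simple_toSubalgebra_of_isAlgebraic (Algebra.IsAlgebraic.isAlgebraic zb)]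
        exact hy
      rw [Algebra.adjoin_singleton_eq_range_aeval] at hy'
      exact hy'
    let h := minpoly F zb
    have hint : IsIntegral F zb := Algebra.IsIntegral.isIntegral zb
    have hh' : derivative h = 0 := by
      by_contra hne'
      have hs1 : IsSeparable F zb := (separable_iff_derivative_ne_zero (minpoly.irreducible hint)).2 hne'
      have hs2 : IsSeparable K zb := IsSeparable.of_algebra_isSeparable_of_isSeparable K hs1
      have hzF : zb ∈ F := mem_separableClosure_iff.2 hs2
      apply hzb
      have h1 := hφ₂ (algebraMap F B ⟨zb, hzF⟩)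
      rw [hF, map_zero, hcomp] at h1
      exact h1.symm
    have hdvd : ∀ p : F[X], aeval z p ∈ maximalIdeal B → h ∣ p := fun p hp => by
      rw [← IsLocalRing.residue_eq_zero_iff, hres, hz] at hp
      exact minpoly.dvd F zb hp
    have hwm : aeval z h ∈ maximalIdeal B := by
      rw [← IsLocalRing.residue_eq_zero_iff, hres, hz]
      exact minpoly.aeval F zb
    obtain ⟨u, hu⟩ := Ideal.mem_span_singleton'.1 (hm ▸ hwm)
    -- the value of `h` generates the maximal ideal
    have hgenm : maximalIdeal B = Ideal.span {aeval z h} := by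
      by_cases huu : IsUnit u
      · rw [hm, ← hu, Ideal.span_singleton_mul_left_unit huu]
      by_cases he1 : e = 1
      · subst he1
        rw [pow_one] at hpow
        rw [hm, ← hu, hpow, mul_zero]
      exfalso
      have hum : u ∈ maximalIdeal B := (IsLocalRing.mem_maximalIdeal u).2 huu
      obtain ⟨v, rfl⟩ := Ideal.mem_span_singleton'.1 (hm ▸ hum)
      have hwd : ∀ (p : F[X]) (r : B), aeval z p + π * r = 0 → residue B r = 0 := by
        intro p r hpr
        have hpm : aeval z p ∈ maximalIdeal B := by
          rw [eq_neg_of_add_eq_zero_left hpr, hm]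
          exact neg_mem (Ideal.mul_mem_right _ _ (Ideal.mem_span_singleton_self π))
        obtain ⟨q, rfl⟩ := hdvd p hpm
        rw [map_mul, ← hu] at hpr
        have h0 : π * (r + v * π * aeval z q) = 0 := by linear_combination hpr
        have hnu : r + v * π * aeval z q ∈ maximalIdeal B := by
          by_contra hc
          have h1 : π = 0 := (IsUnit.mul_left_eq_zero (IsLocalRing.notMem_maximalIdeal.1 hc)).1 h0
          exact hne (by rw [h1, zero_pow (by omega)])
        rw [← IsLocalRing.residue_eq_zero_iff, map_add, map_mul, map_mul,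
          show residue B π = 0 by rw [IsLocalRing.residue_eq_zero_iff, hm]; exact Ideal.mem_span_singleton_self π,
          mul_zero, zero_mul, add_zero] at hnu
        exact hnu
      have hdec : ∀ b : B, ∃ (p : F[X]) (r : B), aeval z p + π * r = b := fun b => by
        obtain ⟨p, hp⟩ := hadj (residue B b)
        have hmem : b - aeval z p ∈ maximalIdeal B := by
          rw [← IsLocalRing.residue_eq_zero_iff, map_sub, hres, hz, hp, sub_self]
        obtain ⟨r, hr⟩ := Ideal.mem_span_singleton'.1 (hm ▸ hmem)
        exact ⟨p, r, by rw [mul_comm π, hr]; abel⟩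
      choose P R hPR using hdec
      have key : ∀ (b : B) (p : F[X]) (r : B), aeval z p + π * r = b → residue B (R b) = residue B r := by
        intro b p r hb
        rw [← sub_eq_zero, ← map_sub]
        refine hwd (P b - p) _ ?_
        rw [map_sub]
        linear_combination hPR b - hb
      let D₁l : B →ₗ[K] κ :=
        { toFun := fun b => residue B (R b)
          map_add' := fun a b => by
            rw [key (a + b) (P a + P b) (R a + R b) (by
              rw [map_add]; linear_combination hPR a + hPR b), map_add]
          map_smul' := fun c b => by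
            rw [key (c • b) (C (algebraMap K F c) * P b) (algebraMap K B c * R b) (by
              rw [map_mul, aeval_C, ← IsScalarTower.algebraMap_apply, Algebra.smul_def]
              linear_combination algebraMap K B c * hPR b), map_mul, RingHom.id_apply, Algebra.smul_def]
            rfl }
      let D₁ : Derivation K B κ := Derivation.mk' D₁l fun a b => by
        show residue B (R (a * b)) = algebraMap B κ a * residue B (R b) + algebraMap B κ b * residue B (R a)
        have hπ0 : residue B π = 0 := by
          rw [IsLocalRing.residue_eq_zero_iff, hm]; exact Ideal.mem_span_singleton_self π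
        rw [key (a * b) (P a * P b) (a * R b + aeval z (P b) * R a) (by
          rw [map_mul]
          linear_combination (aeval z (P b)) * hPR a + a * hPR b)]
        rw [map_add, map_mul, map_mul, IsLocalRing.ResidueField.algebraMap_eq,
          show residue B (aeval z (P b)) = residue B b by
            conv_rhs => rw [← hPR b, map_add, map_mul, hπ0, zero_mul, add_zero]]
      have hD₁ : D₁ π = 1 := by
        show residue B (R π) = 1
        rw [key π 0 1 (by rw [map_zero, mul_one, zero_add]), map_one]
      obtain ⟨b, hb⟩ := hω (KaehlerDifferential.D K B π)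
      obtain ⟨b', hb'⟩ := hω (KaehlerDifferential.D K B z)
      have h1 := congrArg D₁.liftKaehlerDifferential hb
      rw [map_smul, Derivation.liftKaehlerDifferential_comp_D, hD₁] at h1
      have h2 := congrArg φ₂ hb
      rw [map_smul, hφ₂, show residue B π = 0 by
        rw [IsLocalRing.residue_eq_zero_iff, hm]; exact Ideal.mem_span_singleton_self π, map_zero] at h2
      have hbu : IsUnit b := by
        refine IsLocalRing.notMem_maximalIdeal.1 fun hbm => one_ne_zero (α := κ) ?_
        rw [← h1, Algebra.smul_def, IsLocalRing.ResidueField.algebraMap_eq,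
          (IsLocalRing.residue_eq_zero_iff b).2 hbm, zero_mul]
      have h3 : φ₂ ω = 0 := hbu.smul_eq_zero.1 h2
      have h4 := congrArg φ₂ hb'
      rw [map_smul, h3, smul_zero, hφ₂, hz] at h4
      exact hzb h4.symm
    obtain ⟨hwe, hwne⟩ : aeval z h ^ e = 0 ∧ ∀ i, i < e → aeval z h ^ i ≠ 0 := by
      by_cases huu : IsUnit u
      · exact hlt huu (by rw [← hu, mul_comm])
      by_cases he1 : e = 1
      · subst he1
        rw [pow_one] at hpow
        refine ⟨by rw [pow_one, ← hu, hpow, mul_zero], fun i hi => ?_⟩
        rw [Nat.lt_one_iff.1 hi, pow_zero]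
        exact one_ne_zero
      exfalso
      obtain ⟨a, ha⟩ := Ideal.mem_span_singleton'.1 (hgenm ▸ (hm ▸ Ideal.mem_span_singleton_self π :
        π ∈ maximalIdeal B))
      rw [← hu, ← mul_assoc] at ha
      have h0 : π * (1 - a * u) = 0 := by linear_combination -ha
      have h1 : IsUnit (1 - a * u) := IsLocalRing.isUnit_one_sub_self_of_mem_nonunits _
        ((IsLocalRing.mem_maximalIdeal _).1 (Ideal.mul_mem_left _ _ ((IsLocalRing.mem_maximalIdeal u).2 huu)))
      exact hne (by rw [(IsUnit.mul_left_eq_zero h1).1 h0, zero_pow (by omega)])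
    have hsurj := surjective_aeval z h hgenm hwe rfl fun b => by
      obtain ⟨p, hp⟩ := hadj (residue B b)
      exact ⟨p, by rw [hres, hz, hp]⟩
    have hker := pow_dvd_of_aeval_eq_zero z h hgenm hwe rfl hwne hdvd
    obtain ⟨φ, hφ⟩ := exists_presentation (K := K) z (h ^ e) hsurj (by rw [map_pow, hwe]) hker
    have hspan : Ideal.span {aeval z (derivative (h ^ e))} = (⊥ : Ideal B) := by
      rw [derivative_pow, hh', mul_zero, map_zero, Ideal.span_singleton_eq_bot.2 rfl]
    exact ⟨(Submodule.quotEquivOfEqBot _ hspan).toLinearMap ∘ₗ φ,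
      (Submodule.quotEquivOfEqBot _ hspan).surjective.comp hφ⟩

end Groth.Agent.DiffLength
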