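import Groth.Agent.DiffLength.Basic
import Groth.Agent.H26.IdealFactorPrimes
import Mathlib.RingTheory.DiscreteValuationRing.Basic
import Mathlib.RingTheory.Length
import Mathlib.RingTheory.Nakayama
import Mathlib.LinearAlgebra.TensorProduct.Quotient

/-!
# The length of the differentials of an extension of discrete valuation rings
-/

set_option autoImplicit false
set_option linter.style.haveILetI false
set_option linter.unusedSectionVars false
set_option maxHeartbeats 1000000

universe u

open IsLocalRing TensorProduct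

namespace Groth.Agent.DiffLength

variable {A O : Type u} [CommRing A] [IsLocalRing A] [CommRing O] [IsDomain O] [IsLocalRing O]
  [Algebra A O]

/-- The differentials of `O` modulo `π ^ e` see all of `Ω[O⁄A]` modulo `π ^ e`. -/
theorem mem_smul_top_of_map_eq_zero {π : O} {e : ℕ}
    (hmap : (maximalIdeal A).map (algebraMap A O) = Ideal.span {π ^ e}) {t : A} (ht : maximalIdeal A = Ideal.span {t})
    (x : Ω[O⁄A]) (hx : KaehlerDifferential.map A A O (O ⧸ Ideal.span {π ^ e}) x = 0) :
    x ∈ Ideal.span {π ^ e} • (⊤ : Submodule O Ω[O⁄A]) := by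
  set I := Ideal.span {π ^ e} with hI
  have hsurj : Function.Surjective (algebraMap O (O ⧸ I)) := Ideal.Quotient.mk_surjective
  have h0 : KaehlerDifferential.mapBaseChange A O (O ⧸ I) ((1 : O ⧸ I) ⊗ₜ x) = 0 := by
    rw [KaehlerDifferential.mapBaseChange_tmul, hx, smul_zero]
  obtain ⟨c, hc⟩ := (KaehlerDifferential.exact_kerCotangentToTensor_mapBaseChange A O (O ⧸ I) hsurj _).1 h0
  obtain ⟨⟨a, ha⟩, rfl⟩ := Ideal.toCotangent_surjective _ c
  rw [KaehlerDifferential.kerCotangentToTensor_toCotangent] at hc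
  have h1 := congrArg (TensorProduct.quotTensorEquivQuotSMul Ω[O⁄A] I) hc
  rw [← map_one (Ideal.Quotient.mk I), TensorProduct.quotTensorEquivQuotSMul_mk_tmul,
    TensorProduct.quotTensorEquivQuotSMul_mk_tmul, one_smul, one_smul, eq_comm] at h1
  rw [← Submodule.Quotient.mk_eq_zero, h1, Submodule.Quotient.mk_eq_zero]
  show KaehlerDifferential.D A O a ∈ _
  have ha' : a ∈ I := Ideal.Quotient.eq_zero_iff_mem.1 ha
  rw [ht, Ideal.map_span, Set.image_singleton] at hmap
  obtain ⟨r, rfl⟩ := Ideal.mem_span_singleton'.1 (hmap.symm ▸ ha')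
  rw [Derivation.leibniz, Derivation.map_algebraMap, smul_zero, zero_add]
  exact Submodule.smul_mem_smul (hmap ▸ Ideal.mem_span_singleton_self _) Submodule.mem_top

variable [IsLocalHom (algebraMap A O)]

theorem length_dichotomy [Module.Finite (ResidueField A) (ResidueField O)] {π : O} (hπ : π ≠ 0)
    (hm : maximalIdeal O = Ideal.span {π}) {e : ℕ} (he : 0 < e)
    (hmap : (maximalIdeal A).map (algebraMap A O) = Ideal.span {π ^ e}) {t : A} (ht : maximalIdeal A = Ideal.span {t})
    (hcyc : ∃ ω : Ω[O⁄A], ∀ x, ∃ a : O, a • ω = x) :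
    (((e - 1 : ℕ) : ℕ∞) ≤ Module.length O Ω[O⁄A] ∧
      (Module.length O Ω[O⁄A] = ((e - 1 : ℕ) : ℕ∞) ↔
        (Algebra.IsSeparable (ResidueField A) (ResidueField O) ∧ (e : ResidueField A) ≠ 0))) := by
  classical
  set I := Ideal.span {π ^ e} with hI
  let B := O ⧸ I
  have hπnu : ¬IsUnit π := fun h => by
    have : π ∈ maximalIdeal O := hm ▸ Ideal.mem_span_singleton_self π
    exact (IsLocalRing.mem_maximalIdeal π).1 this h
  haveI : Nontrivial B := Ideal.Quotient.nontrivial_iff.2 fun h => by
    rw [hI, Ideal.span_singleton_eq_top] at h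
    exact hπnu ((isUnit_pow_iff he.ne').1 h)
  haveI : IsLocalRing B := IsLocalRing.of_surjective' (Ideal.Quotient.mk I) Ideal.Quotient.mk_surjective
  haveI : IsLocalHom (Ideal.Quotient.mk I) := IsLocalHom.of_surjective _ Ideal.Quotient.mk_surjective
  have hmB : maximalIdeal B = Ideal.span {Ideal.Quotient.mk I π} := by
    rw [← Ideal.map_comap_of_surjective _ Ideal.Quotient.mk_surjective (maximalIdeal B),
      IsLocalRing.maximalIdeal_comap, hm, Ideal.map_span, Set.image_singleton]
  let K := ResidueField A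
  letI : Algebra K B := (Ideal.Quotient.lift (maximalIdeal A) (algebraMap A B) (fun a ha => by
    rw [IsScalarTower.algebraMap_apply A O B, Ideal.Quotient.algebraMap_eq, Ideal.Quotient.eq_zero_iff_mem]
    exact hmap ▸ Ideal.mem_map_of_mem _ ha) : K →+* B).toAlgebra
  haveI : IsScalarTower A K B := IsScalarTower.of_algebraMap_eq fun a => rfl
  let φκ : ResidueField O →+* ResidueField B := IsLocalRing.ResidueField.map (Ideal.Quotient.mk I)
  let eκ : ResidueField O ≃ₐ[K] ResidueField B := AlgEquiv.ofBijective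
    { toRingHom := φκ
      commutes' := fun r => by
        obtain ⟨a, rfl⟩ := IsLocalRing.residue_surjective r
        rfl } ⟨φκ.injective, fun y => by
      obtain ⟨b, rfl⟩ := IsLocalRing.residue_surjective y
      obtain ⟨o, rfl⟩ := Ideal.Quotient.mk_surjective b
      exact ⟨residue O o, rfl⟩⟩
  haveI : Module.Finite K (ResidueField B) := Module.Finite.equiv eκ.toLinearEquiv
  have hsep : Algebra.IsSeparable K (ResidueField B) ↔ Algebra.IsSeparable K (ResidueField O) :=
    AlgEquiv.Algebra.isSeparable_iff eκ.symm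
  have hne : Ideal.Quotient.mk I π ^ (e - 1) ≠ 0 := by
    rw [← map_pow, Ne, Ideal.Quotient.eq_zero_iff_mem, hI, Ideal.mem_span_singleton, pow_dvd_pow_iff hπ hπnu]
    omega
  have hpow : Ideal.Quotient.mk I π ^ e = 0 := by
    rw [← map_pow, Ideal.Quotient.eq_zero_iff_mem]; exact Ideal.mem_span_singleton_self _
  -- comparison maps
  let μ : Ω[O⁄A] →ₗ[O] Ω[B⁄A] := KaehlerDifferential.map A A O B
  let ν : Ω[B⁄A] →ₗ[B] Ω[B⁄K] := KaehlerDifferential.map A K B B
  have hμ : Function.Surjective μ :=
    KaehlerDifferential.map_surjective_of_surjective A A O B Ideal.Quotient.mk_surjective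
  have hν : Function.Surjective ν := KaehlerDifferential.map_surjective A K B
  have hνi : Function.Injective ν := by
    haveI : Subsingleton Ω[K⁄A] :=
      KaehlerDifferential.subsingleton_of_surjective A K Ideal.Quotient.mk_surjective
    rw [← LinearMap.ker_eq_bot, ← KaehlerDifferential.range_mapBaseChange A K B, LinearMap.range_eq_bot]
    exact LinearMap.ext fun x => by rw [Subsingleton.elim x 0, map_zero]; rfl
  obtain ⟨ω, hω⟩ := hcyc
  let θ : Ω[O⁄A] →ₗ[O] Ω[B⁄K] := (ν.restrictScalars O) ∘ₗ μ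
  have hθ : Function.Surjective θ := hν.comp hμ
  obtain ⟨htame, hwild⟩ := dichotomy (K := K) hmB he hpow hne ⟨θ ω, fun x => by
    obtain ⟨y, rfl⟩ := hθ x
    obtain ⟨a, rfl⟩ := hω y
    exact ⟨Ideal.Quotient.mk I a, by rw [map_smul]; exact algebraMap_smul B a (θ ω)⟩⟩
  have hlen := H26.IdealFactor.length_quotient_pow hπ hm
  have key : (Algebra.IsSeparable K (ResidueField O) ∧ (e : K) ≠ 0) →
      Module.length O Ω[O⁄A] = ((e - 1 : ℕ) : ℕ∞) := by
    intro hP
    obtain ⟨hann, φ, hφ⟩ := htame ⟨hsep.2 hP.1, hP.2⟩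
    refine le_antisymm ?_ ?_
    · have hkill : Ideal.span {π ^ (e - 1)} • (⊤ : Submodule O Ω[O⁄A]) = ⊥ := by
        haveI : Module.Finite O Ω[O⁄A] := Module.Finite.of_surjective (LinearMap.toSpanSingleton O _ ω) fun x => hω x
        refine Submodule.eq_bot_of_le_smul_of_le_jacobson_bot (Ideal.span {π}) _
          (Submodule.FG.smul (Submodule.fg_span_singleton _) Module.Finite.fg_top) ?_
          ((IsLocalRing.jacobson_eq_maximalIdeal (⊥ : Ideal O) bot_ne_top).symm ▸ hm.ge)
        rw [← Submodule.mul_smul, Ideal.span_singleton_mul_span_singleton, ← pow_succ', Nat.sub_add_cancel he]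
        rw [Submodule.smul_le]
        intro r hr x _
        refine mem_smul_top_of_map_eq_zero hmap ht _ (hνi ?_)
        obtain ⟨r, rfl⟩ := Ideal.mem_span_singleton'.1 hr
        rw [map_zero, map_smul]
        show ν ((r * π ^ (e - 1)) • μ x) = 0
        rw [mul_smul, ← algebraMap_smul B (π ^ (e - 1)), ← algebraMap_smul B r, map_smul, map_smul, map_pow,
          Ideal.Quotient.algebraMap_eq, hann, smul_zero]
      let ψ : (O ⧸ Ideal.span {π ^ (e - 1)}) →ₗ[O] Ω[O⁄A] :=
        Submodule.liftQ _ (LinearMap.toSpanSingleton O _ ω) fun a ha => by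
          rw [LinearMap.mem_ker, LinearMap.toSpanSingleton_apply]
          exact (Submodule.mem_bot O).1 (hkill ▸ Submodule.smul_mem_smul ha Submodule.mem_top)
      refine (Module.length_le_of_surjective ψ fun x => ?_).trans_eq (hlen _)
      obtain ⟨a, rfl⟩ := hω x
      exact ⟨Submodule.Quotient.mk a, rfl⟩
    · let J : Ideal B := Ideal.span {Ideal.Quotient.mk I π ^ (e - 1)}
      let χ : B →+* O ⧸ Ideal.span {π ^ (e - 1)} :=
        Ideal.Quotient.factor (Ideal.span_singleton_le_span_singleton.2 (pow_dvd_pow π (Nat.sub_le e 1)))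
      let χ' : (B ⧸ J) →+* O ⧸ Ideal.span {π ^ (e - 1)} := Ideal.Quotient.lift J χ fun b hb => by
        obtain ⟨c, rfl⟩ := Ideal.mem_span_singleton'.1 hb
        rw [map_mul, ← map_pow,
          show χ (Ideal.Quotient.mk I (π ^ (e - 1))) = 0 from
            Ideal.Quotient.eq_zero_iff_mem.2 (Ideal.mem_span_singleton_self _), mul_zero]
      let χl : (B ⧸ J) →ₗ[O] O ⧸ Ideal.span {π ^ (e - 1)} :=
        { toFun := χ'
          map_add' := map_add χ'
          map_smul' := fun a x => by
            obtain ⟨b, rfl⟩ := Ideal.Quotient.mk_surjective x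
            obtain ⟨c, rfl⟩ := Ideal.Quotient.mk_surjective b
            rfl }
      refine (hlen _).symm.trans_le (Module.length_le_of_surjective (χl ∘ₗ (φ.restrictScalars O) ∘ₗ θ) ?_)
      have hχ : Function.Surjective χl := fun y => by
        obtain ⟨c, rfl⟩ := Ideal.Quotient.mk_surjective y
        exact ⟨Ideal.Quotient.mk J (Ideal.Quotient.mk I c), rfl⟩
      exact hχ.comp (hφ.comp hθ)
  have key' : ¬(Algebra.IsSeparable K (ResidueField O) ∧ (e : K) ≠ 0) →
      ((e : ℕ) : ℕ∞) ≤ Module.length O Ω[O⁄A] := by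
    intro hP
    obtain ⟨φ, hφ⟩ := hwild fun h => hP ⟨hsep.1 h.1, h.2⟩
    exact (hlen e).symm.trans_le
      (Module.length_le_of_surjective ((φ.restrictScalars O) ∘ₗ θ) (hφ.comp hθ))
  by_cases hP : Algebra.IsSeparable K (ResidueField O) ∧ (e : K) ≠ 0
  · exact ⟨(key hP).ge, fun _ => hP, key⟩
  · refine ⟨le_trans ?_ (key' hP), fun h => absurd ?_ hP, key⟩
    · exact_mod_cast Nat.sub_le e 1
    · exfalso
      have := key' hP
      rw [h, Nat.cast_le] at this
      omega

end Groth.Agent.DiffLength
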